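import Cfsg.Agent.TAB.C3B.Basic_m3
import Cfsg.Agent.TAB.C3B.Cen_m3
import Cfsg.Agent.TID.Suz.Fam
import Cfsg.Agent.KFacts.SuzTwoB
import Cfsg.Agent.H651.HNF.Raw_m3
import Cfsg.Agent.SP.NJ3.L16
import Cfsg.Agent.SP.Iface_m3
import Cfsg.Agent.H296.JT.Count
import Cfsg.Agent.H392.HT.SFacts
import Cfsg.Agent.H4.Bar_m3
import Cfsg.Agent.OrdDiv.Table
import Cfsg.Agent.Lib.FastPerm
import Cfsg.Agent.FastGrp
import Cfsg.Agent.Prune
set_option linter.all false

section
prune_inst 0x7ff2bdf98fb9bddfffff7e7ffefddffdfdb0ffffffdff9cb7fe169ff2fdf6b65cbc5fbaf8fef12ff9ef6e29c10f87bd3fffffeffea6bdc7ffffd5ff45ffbffdfffffbd0c7196bc341ffe6ffffbf27fae7f3fffffffffffffffffffffffffffffffffffffffff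

-- part: SP/Mon/D1/Gen
section
prune_inst 0xc0004600602200000000000022000020800000000003000000000000010980000040060002100010000008004000000000000100420000000a000000000000000000000010000000000000000800000000000000000000000000000000000000000000000
set_option linter.all false
open scoped Cfsg.Agent.FastGrp

/-! # S5755, the Monster: classes of `Suz` and eigenspaces in `2Suz` (helper22) -/

set_option autoImplicit false
set_option maxRecDepth 100000
set_option exponentiation.threshold 5000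
set_option Elab.async false

namespace Cfsg.Agent.SP.Mon.D1

open Matrix Cfsg Subgroup Cfsg.Agent.H920.Sz12 Cfsg.Agent.TAB.C3B Cfsg.Agent.TAB.C3B.Cen
open Cfsg.Spor (Suz)
open Cfsg.Agent.TID.Suz Cfsg.Agent.H714.S8.SuzFam Cfsg.Agent.H123.Cls
open Cfsg.Agent.H123.Cls.SuzDat (gens comm_tab row key)
open Cfsg.Agent.OddHalf.Table.SuzRep (ψ)

/-- counting by fibres -/
theorem fib {α β : Type*} [Finite α] (B : Set α) (g : α → β) {T : Set β} (hf : T.Finite) (m : ℕ)
    (hT : ∀ a ∈ B, g a ∈ T) (hm : ∀ a₀ ∈ B, {a | a ∈ B ∧ g a = g a₀}.ncard ≤ m) : B.ncard ≤ m * T.ncard := by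
  classical
  have hB : B.Finite := Set.toFinite B
  rw [Set.ncard_eq_toFinset_card B hB, Set.ncard_eq_toFinset_card T hf]
  refine Finset.card_le_mul_card_image_of_maps_to (f := g)
    (fun a ha => hf.mem_toFinset.2 (hT a (hB.mem_toFinset.1 ha))) m fun b _ => ?_
  rcases (hB.toFinset.filter fun a => g a = b).eq_empty_or_nonempty with he | ⟨a₀, ha₀⟩
  · rw [he]
    exact Nat.zero_le _
  · rw [Finset.mem_filter, hB.mem_toFinset] at ha₀
    refine le_trans (le_of_eq ?_) (hm a₀ ha₀.1)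
    rw [← Set.ncard_coe_finset, ha₀.2]
    congr 1
    ext a
    simp

theorem fin_Suz : Finite Suz := H714.S8.SuzFam.finite_Suz

/-! ### classes of `Suz` -/

theorem isConj_of_fam {u g : Suz} {i : ℕ} (hu : fam u = i) (hg : fam g = i)
    (h : CS u * SZ.getD i 0 ≤ 448345497600) : IsConj u g := by
  have := fin_Suz
  have h1 := cls_mul u
  have h2 := fam_ncard i
  have h0 : 0 < CS u := Nat.card_pos
  have h3 : {y : Suz | IsConj u y} = {y : Suz | fam y = i} := by
    refine Set.eq_of_subset_of_ncard_le (fun y hy => (fam_isConj hy).trans hu) ?_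
    rw [h2]
    refine Nat.le_of_mul_le_mul_left ?_ h0
    rw [mul_comm _ (Set.ncard _)]
    exact h.trans h1.ge
  have h4 : g ∈ {y : Suz | fam y = i} := hg
  rw [← h3] at h4
  exact h4

theorem fam_cm {P i : ℕ} {a b cs : List ℕ} (hi : i < 37) (h1 : chkC 1782 11 gens P a b = true)
    (h2 : chkSig 1782 11 row 11 P key cs = true) (hl : cs.length = key.length) (hc : cs = SL.getD i []) :
    fam (sw (cmW a b)) = i := by
  have hr : ∀ p : Fin 1782, (ψ (sw (cmW a b)) p : ℕ) = lk 11 P p := by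
    rw [sw_cmW]
    exact comm_tab h1
  exact fam_of_sg hi ((sig_of_chk (by norm_num) hr h2 hl).trans hc)

theorem conj36 {s : Suz} (h : fam s = 36) : IsConj (sw (cmW [3] [4])) s := by
  refine isConj_of_fam (fam_cm (by norm_num) SuzDat.cm36 SuzDat.sg36 rfl rfl) h ?_
  have h1 := (cs_le_odd odd36).trans (card_CA SuzDat.cm36 SuzDat.bd36)
  rw [show SZ.getD 36 0 = 45760 from rfl]
  omega

theorem conj4 {s : Suz} (h : fam s = 4) : IsConj (sw (cmW [2] [1, 6, 5, 3, 1])) s := by
  refine isConj_of_fam (fam_cm (by norm_num) SuzDat.cm4 SuzDat.sg4 rfl rfl) h ?_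
  have h1 := (cs_le_odd odd4).trans (card_CA SuzDat.cm4 SuzDat.bd4)
  rw [show SZ.getD 4 0 = 12812800 from rfl]
  exact (Nat.mul_le_mul_right _ (Nat.le_of_mul_le_mul_left (b := 34992) h1 two_pos)).trans (by norm_num)

theorem conj0 {s : Suz} (h : fam s = 0) : IsConj (sw (cmW [5] [6])) s := by
  refine isConj_of_fam (fam_cm (by norm_num) SuzDat.cm0 SuzDat.sg0 rfl rfl) h ?_
  have h1 := (cs_le_odd odd0).trans (card_CA SuzDat.cm0 SuzDat.bd0)
  rw [show SZ.getD 0 0 = 135135 from rfl]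
  exact (Nat.mul_le_mul_right _ (Nat.le_of_mul_le_mul_left (b := 3317760) h1 two_pos)).trans (by norm_num)

/-- involutions -/
theorem fam_two {g : Suz} (h : g ^ 2 = 1) : fam g = 1 ∨ fam g = 0 ∨ fam g = 31 := by
  have h1 := fam_sq g
  rw [h, fam_one] at h1
  have h2 : ∀ i < 37, 1 = P2.getD i 0 → i = 1 ∨ i = 0 ∨ i = 31 := by decide +kernel
  exact h2 _ (fam_lt g) h1

theorem conj31 {s : Suz} (h : fam s = 31) : IsConj (sw [4]) s := by
  have h0 : CS (sw [4]) = 161280 := KFacts.SuzTwoB.card_CE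
  have h1 : fam (sw [4]) = 31 := by
    have h2 := cent_mul (sw [4])
    rw [show Nat.card (centralizer ({sw [4]} : Set Suz)) = 161280 from h0] at h2
    rcases fam_two (g := sw [4]) (by rw [pow_two, sw_cons, sw_nil, mul_one, of_sq]) with h3 | h3 | h3
    · rw [h3, show SZ.getD 1 0 = 1 from rfl] at h2
      omega
    · rw [h3, show SZ.getD 0 0 = 135135 from rfl] at h2
      omega
    · exact h3
  refine isConj_of_fam h1 h ?_
  rw [h0, show SZ.getD 31 0 = 2779920 from rfl]

theorem cs_six {s : Suz} (h : fam s = 6) : CS s ≤ 6480 := by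
  have h2 := cent_mul s
  rw [h, show SZ.getD 6 0 = 138378240 from rfl] at h2
  unfold CS
  omega

theorem n_three : {s : Suz | s ^ 3 = 1}.ncard ≤ 151236801 := by
  have := fin_Suz
  have : Fact (Nat.Prime 3) := ⟨Nat.prime_three⟩
  have h1 : {s : Suz | s ^ 3 = 1} ⊆ (({s | fam s = 1} ∪ {s | fam s = 4}) ∪ {s | fam s = 6}) ∪ {s | fam s = 36} := by
    intro s hs
    by_cases h : s = 1
    · exact Or.inl (Or.inl (Or.inl (fam_eq_one.2 h)))
    · rcases fam_three (orderOf_eq_prime hs h) with k | k | k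
      · exact Or.inl (Or.inl (Or.inr k))
      · exact Or.inl (Or.inr k)
      · exact Or.inr k
  refine (Set.ncard_le_ncard h1).trans ((Set.ncard_union_le _ _).trans ?_)
  refine (Nat.add_le_add_right ((Set.ncard_union_le _ _).trans (Nat.add_le_add_right (Set.ncard_union_le _ _) _)) _).trans ?_
  rw [fam_ncard, fam_ncard, fam_ncard, fam_ncard]
  decide +kernel

theorem n_five : {s : Suz | s ^ 5 = 1}.ncard ≤ 1743565825 := by
  have := fin_Suz
  have : Fact (Nat.Prime 5) := ⟨Nat.prime_five⟩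
  have h1 : {s : Suz | s ^ 5 = 1} ⊆ ({s | fam s = 1} ∪ {s | fam s = 14}) ∪ {s | fam s = 34} := by
    intro s hs
    by_cases h : s = 1
    · exact Or.inl (Or.inl (fam_eq_one.2 h))
    · rcases fam_five (orderOf_eq_prime hs h) with k | k
      · exact Or.inl (Or.inr k)
      · exact Or.inr k
  refine (Set.ncard_le_ncard h1).trans ((Set.ncard_union_le _ _).trans ?_)
  refine (Nat.add_le_add_right (Set.ncard_union_le _ _) _).trans ?_
  rw [fam_ncard, fam_ncard, fam_ncard]
  decide +kernel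

/-- sets like the elements inverted by an automorphism -/
theorem sq_le {I : Set Suz} (h : ∀ s ∈ I, ∀ t ∈ I, ∀ x, s * x ∈ I → t * x ∈ I → t⁻¹ * s * x = x * (t⁻¹ * s)) :
    I.ncard ≤ 5760000 := by
  have := fin_Suz
  have h1 : (I ×ˢ I).ncard ≤ (2 * 448345497600) * (Set.Iio 37).ncard := by
    refine fib (I ×ˢ I) (fun p => fam (p.1⁻¹ * p.2)) (Set.finite_Iio 37) _ (fun p _ => fam_lt _) fun p₀ _ => ?_
    set i := fam (p₀.1⁻¹ * p₀.2) with hi
    have h2 := fib {p | p ∈ I ×ˢ I ∧ fam (p.1⁻¹ * p.2) = i} (fun p => p.1⁻¹ * p.2) (T := {x | fam x = i})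
      (Set.toFinite _) (2 * 448345497600 / SZ.getD i 0) (fun p hp => hp.2) fun q hq => by
        set x := q.1⁻¹ * q.2 with hx
        have h3 : {p | p ∈ {p | p ∈ I ×ˢ I ∧ fam (p.1⁻¹ * p.2) = i} ∧ p.1⁻¹ * p.2 = x}.ncard ≤
            (centralizer ({x} : Set Suz) : Set Suz).ncard := by
          refine Set.ncard_le_ncard_of_injOn (fun p => q.1⁻¹ * p.1) (fun p hp => ?_) fun p hp p' hp' e => ?_
          · refine mem_centralizer_singleton_iff.2 (h _ hp.1.1.1 _ hq.1.1 x ?_ ?_)
            · rw [← hp.2, mul_inv_cancel_left]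
              exact hp.1.1.2
            · rw [hx, mul_inv_cancel_left]
              exact hq.1.2
          · have e1 : p.1 = p'.1 := mul_left_cancel e
            have e2 := hp.2.trans hp'.2.symm
            rw [e1] at e2
            exact Prod.ext e1 (mul_left_cancel e2)
        refine h3.trans ?_
        have h4 := cent_mul x
        have h5 : fam x = i := hq.2
        rw [h5] at h4
        have h6 : 0 < SZ.getD i 0 := by
          rcases Nat.eq_zero_or_pos (SZ.getD i 0) with h6 | h6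
          · rw [h6] at h4
            omega
          · exact h6
        rw [Nat.le_div_iff_mul_le h6, ← Nat.card_coe_set_eq]
        rcases h4 with h4 | h4
        · exact h4.le.trans (by norm_num)
        · exact h4.le
    rw [fam_ncard] at h2
    exact h2.trans (Nat.div_mul_le_self _ _)
  rw [Set.ncard_prod, Set.ncard_Iio_nat] at h1
  by_contra h2
  have h3 : 5760001 ≤ I.ncard := by omega
  have h4 := (Nat.mul_le_mul h3 h3).trans h1
  omega

/-! ### `2Suz` -/

theorem lift_conj {s u : Suz} {A X : GL12} (hs : φ s = (QuotientGroup.mk A : QQ)) (hu : φ u = (QuotientGroup.mk X : QQ))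
    (h : IsConj u s) : ∃ B ∈ W, X * B = B * A ∨ X * B = -(B * A) := by
  obtain ⟨c, hc⟩ := isConj_iff.1 h
  obtain ⟨B, hB⟩ := QuotientGroup.mk_surjective (φ c⁻¹)
  refine ⟨B, mem_W.2 ⟨_, hB.symm⟩, mk_eq_iff.1 ?_⟩
  rw [QuotientGroup.mk_mul, QuotientGroup.mk_mul, hB, ← hs, ← hu, ← map_mul, ← map_mul, ← hc]
  exact congrArg (fun x => φ x) (by group)

/-- the size of an eigenspace -/
noncomputable def Eg (A : M12) (e : ZMod 3) : ℕ := {u : V12 | u ᵥ* A = e • u}.ncard

theorem Eg_le (A : M12) (e : ZMod 3) : Eg A e ≤ 3 ^ 12 := by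
  rw [← card_rows, ← Set.ncard_univ]
  exact Set.ncard_le_ncard (Set.subset_univ _)

theorem Eg_neg (A : M12) (e : ZMod 3) : Eg (-A) e = Eg A (-e) := by
  unfold Eg
  refine congrArg Set.ncard (Set.ext fun u => ?_)
  simp only [Set.mem_ofPred_eq, vecMul_neg, neg_smul, neg_eq_iff_eq_neg]

theorem Eg_conj {A X B : GL12} (h : X * B = B * A) (e : ZMod 3) : Eg (A : M12) e ≤ Eg (X : M12) e := by
  refine Set.ncard_le_ncard_of_injOn (fun u => u ᵥ* ((B⁻¹ : GL12) : M12)) (fun u hu => ?_) fun u _ v _ k => ?_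
  · have h1 : B⁻¹ * X = A * B⁻¹ := by
      rw [inv_mul_eq_iff_eq_mul, ← mul_assoc, ← h, mul_inv_cancel_right]
    have h2 : u ᵥ* (A : M12) = e • u := hu
    show (u ᵥ* ((B⁻¹ : GL12) : M12)) ᵥ* (X : M12) = e • (u ᵥ* ((B⁻¹ : GL12) : M12))
    rw [vecMul_vecMul, ← Units.val_mul, h1, Units.val_mul, ← vecMul_vecMul, h2, smul_vecMul]
  · have h1 := congrArg (fun w => w ᵥ* (B : M12)) k
    simpa only [vecMul_inv_cancel] using h1

theorem Eg_proper {A : GL12} (h : A ≠ 1) : Eg (A : M12) 1 ≤ 3 ^ 11 := by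
  let L : V12 →+ V12 := AddMonoidHom.mk' (fun w => w ᵥ* (A : M12) - w) fun a b => by rw [add_vecMul]; abel
  have h1 : Eg (A : M12) 1 = Nat.card L.ker := by
    rw [Eg, ← Nat.card_coe_set_eq]
    refine Nat.card_congr (Equiv.subtypeEquivRight fun u => ?_)
    show u ᵥ* (A : M12) = (1 : ZMod 3) • u ↔ u ᵥ* (A : M12) - u = 0
    rw [one_smul, sub_eq_zero]
  have h2 := L.ker.card_addSubgroup_dvd_card
  rw [card_rows] at h2
  obtain ⟨k, hk, h3⟩ := (Nat.dvd_prime_pow Nat.prime_three).1 h2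
  rw [h1, h3]
  refine Nat.pow_le_pow_right (by norm_num) ?_
  by_contra h4
  have h5 : k = 12 := by omega
  have h6 : L.ker = ⊤ := AddSubgroup.eq_top_of_card_eq _ (by rw [h3, h5, card_rows])
  refine h (Units.ext (Matrix.ext fun i j => ?_))
  have h7 : (Pi.single i 1 : V12) ∈ L.ker := by rw [h6]; trivial
  have h8 : (Pi.single i 1 : V12) ᵥ* (A : M12) = Pi.single i 1 := sub_eq_zero.1 h7
  rw [single_one_vecMul] at h8
  rw [Units.val_one, Matrix.one_apply]
  refine (congrFun h8 j).trans ?_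
  rw [Pi.single_apply]
  exact if_congr eq_comm rfl rfl

theorem ker_le {T P E : M12} (h : T * P + E = 1) (I : Finset I12) (hE : ∀ i ∉ I, E i = 0) :
    {u : V12 | u ᵥ* T = 0}.ncard ≤ 3 ^ I.card := by
  have h1 : (Set.univ : Set (I → ZMod 3)).ncard = 3 ^ I.card := by
    rw [Set.ncard_univ, Nat.card_eq_fintype_card, Fintype.card_fun, ZMod.card, Fintype.card_coe]
  rw [← h1]
  refine Set.ncard_le_ncard_of_injOn (fun u i => u i) (fun _ _ => trivial) fun u hu v hv k => ?_
  have h2 : (u - v) ᵥ* T = 0 := by rw [sub_vecMul, show u ᵥ* T = 0 from hu, show v ᵥ* T = 0 from hv, sub_zero]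
  rw [← sub_eq_zero, ← vecMul_one (u - v), ← h, vecMul_add, ← vecMul_vecMul, h2, zero_vecMul, zero_add]
  funext j
  show ∑ i, (u - v) i * E i j = 0
  refine Finset.sum_eq_zero fun i _ => ?_
  by_cases hi : i ∈ I
  · have h3 : u i = v i := congrFun k ⟨i, hi⟩
    rw [Pi.sub_apply, h3, sub_self, zero_mul]
  · rw [hE i hi, Pi.zero_apply, mul_zero]

/-- the generators and two more matrices -/
def ct (P E : List ℕ) : ℕ → List ℕ := tab [aR, bR, cR, dR, eR, fR, gR, P, E]

theorem Eg_cert {P E w l : List ℕ} {e n : ℕ} (hg : ([aR, bR, cR, dR, eR, fR, gR, P, E].all good) = true)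
    (h : zsum (ct P E) [(1, w ++ [7]), (e, [7]), (1, [8]), (2, [])] = true)
    (hE : ∀ i : I12, ix i ∉ l → E.getD (ix i) 0 = 0) (hn : (Finset.univ.filter fun i : I12 => ix i ∈ l).card = n) :
    Eg (wm (ct P E) w) (-(e : ZMod 3)) ≤ 3 ^ n := by
  have h2 := zsum_spec (good_tab hg) h
  have e2 : ((2 : ℕ) : ZMod 3) = -1 := by decide
  simp only [List.map_cons, List.map_nil, List.sum_cons, List.sum_nil, Nat.cast_one, one_smul, wm_append, wm_one,
    wm_nil, e2, neg_one_smul, add_zero] at h2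
  have h3 : (wm (ct P E) w + (e : ZMod 3) • (1 : M12)) * toM P + toM E = 1 := by
    rw [add_mul, smul_mul_assoc, one_mul, ← sub_eq_zero, ← h2]
    show _ = wm (ct P E) w * toM P + ((e : ZMod 3) • toM P + (toM E + -1))
    abel
  have h4 := ker_le h3 (Finset.univ.filter fun i : I12 => ix i ∈ l) fun i hi => by
    funext j
    show ((dg (E.getD (ix i) 0) (ix j) : ℕ) : ZMod 3) = 0
    rw [hE i fun k => hi (Finset.mem_filter.2 ⟨Finset.mem_univ _, k⟩)]
    simp [dg]
  rw [hn] at h4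
  refine le_trans (le_of_eq ?_) h4
  unfold Eg
  refine congrArg Set.ncard (Set.ext fun u => ?_)
  simp only [Set.mem_ofPred_eq, vecMul_add, vecMul_smul, vecMul_one, neg_smul, add_eq_zero_iff_eq_neg]

theorem Eg36 : Eg (wG (cmW [3] [4]) : GL12) 1 ≤ 3 ^ 6 := by
  have h := Eg_cert (w := [3, 4, 3, 4]) (l := [0, 1, 2, 3, 4, 6]) (e := 2) (n := 6)
    (P := [0x20201020000000000000000, 0x20002010200010000000000, 0x10101010000010000000000, 0x20102000200020000000000,
      0x100010100020000000000, 0, 0x10201010200020000000000, 0, 0, 0, 0, 0])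
    (E := [0x10100020000020000000001, 0x202020000000000000100, 0x1010200010000010000, 0x10101000200020001000000,
      0x10200020200010100000000, 0, 0x10201020001000000000000, 0, 0, 0, 0, 0])
    (by decide +kernel) (by decide +kernel) (by decide +kernel) (by decide +kernel)
  rw [show -((2 : ℕ) : ZMod 3) = 1 by decide] at h
  rw [coe_wG]
  exact h

theorem Eg0p : Eg (wG (cmW [5] [6]) : GL12) 1 ≤ 3 ^ 4 := by
  have h := Eg_cert (w := [5, 6, 5, 6]) (l := [0, 1, 3, 4]) (e := 2) (n := 4)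
    (P := [0x10101000201010000000000, 0x201000002010000000000, 0x1000000000000010000, 0x2020002020000000000,
      0x10201000202020000000000, 0x1000000010000000000, 0x10202000101000000000000, 0, 0x10000000000000000, 0, 0, 0])
    (E := [0x202000002020000000001, 0x100000201020000000100, 0, 0x10002010101010001000000, 0x1000001010100000000,
      0, 0, 0, 0, 0, 0, 0])
    (by decide +kernel) (by decide +kernel) (by decide +kernel) (by decide +kernel)
  rw [show -((2 : ℕ) : ZMod 3) = 1 by decide] at h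
  rw [coe_wG]
  exact h

theorem Eg0m : Eg (wG (cmW [5] [6]) : GL12) (-1) ≤ 3 ^ 8 := by
  have h := Eg_cert (w := [5, 6, 5, 6]) (l := [0, 1, 2, 3, 4, 5, 6, 8]) (e := 1) (n := 8)
    (P := [0x201000100000000000000, 0x10102000100000000000000, 0, 0x10202000100000000000000,
      0x20101000000000000000000, 0, 0, 0, 0, 0, 0, 0])
    (E := [0x10000000200000000000001, 0x1000200000000000100, 0x1000000000000010000, 0x10001000100000001000000,
      0x10202000200000100000000, 0x1000000010000000000, 0x10202000101000000000000, 0, 0x10000000000000000, 0, 0, 0])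
    (by decide +kernel) (by decide +kernel) (by decide +kernel) (by decide +kernel)
  rw [Nat.cast_one] at h
  rw [coe_wG]
  exact h

theorem cube36 : wG (cmW [3] [4]) ^ 3 = 1 := by
  have h := word_one (w := [3, 4, 3, 4] ++ [3, 4, 3, 4] ++ [3, 4, 3, 4]) (w' := []) (by decide +kernel)
  rw [List.map_append, List.map_append, List.prod_append, List.prod_append] at h
  rw [pow_succ, pow_two]
  exact h

theorem sq4 : wG [4] ^ 2 = -1 := by
  have h := word_neg (w := [4] ++ [4]) (w' := []) (by decide +kernel)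
  rw [List.map_append, List.prod_append] at h
  rw [pow_two]
  exact h

theorem pow_of_conj {A X B : GL12} (h : X * B = B * A) (n : ℕ) : X ^ n * B = B * A ^ n := by
  induction n with
  | zero => rw [pow_zero, pow_zero, one_mul, mul_one]
  | succ n ih => rw [pow_succ, pow_succ, mul_assoc, h, ← mul_assoc, ih, mul_assoc]

/-- **elements of order three of `2Suz`** -/
theorem three_le {A : GL12} (hA : A ∈ W) (h3 : A ^ 3 = 1) (h1 : A ≠ 1) :
    3 * Eg (A : M12) 1 * CW A ≤ 3 ^ 7 * (2 * 9797760) := by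
  have : Fact (Nat.Prime 3) := ⟨Nat.prime_three⟩
  obtain ⟨s, hs⟩ := mem_W.1 hA
  have hs3 : s ^ 3 = 1 := φ_injective (by rw [map_pow, hs, ← QuotientGroup.mk_pow, h3, map_one]; rfl)
  have hs1 : s ≠ 1 := by
    rintro rfl
    rw [map_one, eq_comm] at hs
    rcases mk_eq_one.1 hs with k | k
    · exact h1 k
    · rw [k, Odd.neg_one_pow (by decide)] at h3
      exact m1_ne h3
  rcases fam_three (orderOf_eq_prime hs3 hs1) with k | k | k
  · obtain ⟨B, hB, e⟩ := lift_conj hs (φ_sw _ (by decide)) (conj4 k)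
    exact (Nat.mul_le_mul (Nat.mul_le_mul_left 3 (Eg_proper h1)) ((CW_conj hB e).trans c4)).trans (by norm_num)
  · have h4 : CW A ≤ 2 * CS s := by
      rw [← card_PC]
      exact card_le_of_le (inf_le_PC hs)
    exact (Nat.mul_le_mul (Nat.mul_le_mul_left 3 (Eg_le _ _)) (h4.trans (Nat.mul_le_mul_left 2 (cs_six k)))).trans
      (by norm_num)
  · obtain ⟨B, hB, e⟩ := lift_conj hs (φ_sw _ (by decide)) (conj36 k)
    have e1 : wG (cmW [3] [4]) * B = B * A := by
      refine e.resolve_right fun e => ?_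
      rw [← mul_neg] at e
      have h5 := pow_of_conj e 3
      rw [cube36, one_mul, Odd.neg_pow (by decide), h3, left_eq_mul] at h5
      exact m1_ne h5
    exact (Nat.mul_le_mul (Nat.mul_le_mul_left 3 ((Eg_conj e1 1).trans Eg36)) ((CW_conj hB e).trans c36)).trans
      (by norm_num)

/-- **involutions of `2Suz`** -/
theorem two_le {A : GL12} {s : Suz} (hs : φ s = (QuotientGroup.mk A : QQ)) (h2 : A ^ 2 = 1) (h1 : s ≠ 1) :
    fam s = 0 ∧ Eg (A : M12) (-1) + Eg (A : M12) 1 ≤ 6642 := by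
  have hs2 : s ^ 2 = 1 := φ_injective (by rw [map_pow, hs, ← QuotientGroup.mk_pow, h2, map_one]; rfl)
  rcases fam_two hs2 with k | k | k
  · exact absurd (fam_eq_one.1 k) h1
  · obtain ⟨B, -, e⟩ := lift_conj hs (φ_sw _ (by decide)) (conj0 k)
    have a1 := Eg0p
    have a2 := Eg0m
    refine ⟨k, ?_⟩
    rcases e with e | e
    · have b1 := Eg_conj e 1
      have b2 := Eg_conj e (-1)
      omega
    · rw [← mul_neg] at e
      have b1 := Eg_conj e 1
      have b2 := Eg_conj e (-1)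
      rw [Units.val_neg, Eg_neg] at b1 b2
      rw [neg_neg] at b2
      omega
  · exfalso
    obtain ⟨B, -, e⟩ := lift_conj hs (φ_sw _ (by decide)) (conj31 k)
    have e1 : wG [4] ^ 2 * B = B * A ^ 2 := by
      rcases e with e | e
      · exact pow_of_conj e 2
      · rw [← mul_neg] at e
        rw [pow_of_conj e 2, neg_sq]
    rw [sq4, h2, mul_one, mul_eq_right] at e1
    exact m1_ne e1

end Cfsg.Agent.SP.Mon.D1

private theorem dce_70bdc654f553 : _root_.True := by
  try have : _root_.True := by simp only [_root_.Cfsg.Agent.SP.Mon.D1.Eg.eq_1]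
  exact _root_.True.intro
end

-- part: SP/Mon/D1/Mod
section
prune_inst 0xd4006704442200000000000022000004b000000000000801c8600000010882420044000104000000000008000800000000000110420000000a00080000000000000200049008a000000000000000000000000000000000000000000000000000000000000
set_option linter.all false
open scoped Cfsg.Agent.FastGrp

/-! # S5755, the Monster: counting in `3 ^ (1 + 12) . 2Suz` (helper22) -/

set_option autoImplicit false
set_option maxRecDepth 100000

namespace Cfsg.Agent.SP.Mon.D1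

open Matrix Cfsg Subgroup Cfsg.Agent.H920.Sz12 Cfsg.Agent.TAB.C3B Cfsg.Agent.TAB.C3B.Cen Cfsg.Agent.TAB.C3B.Mod
open Cfsg.Spor (Suz)
open Cfsg.Agent.TID.Suz Cfsg.Agent.H714.S8.SuzFam

variable {D : Type*} [Group D] (m : TAB.C3B.Mod D)

/-- the map onto `Suz` -/
noncomputable def pS : D →* Suz := MonoidHom.mk' (fun g => (mem_W.1 (m.R_mem g)).choose) fun a b => φ_injective (by
  rw [map_mul φ, (mem_W.1 (m.R_mem a)).choose_spec, (mem_W.1 (m.R_mem b)).choose_spec,
    (mem_W.1 (m.R_mem (a * b))).choose_spec, map_mul]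
  rfl)

theorem φ_pS (g : D) : φ (pS m g) = (QuotientGroup.mk (m.R g) : QQ) := (mem_W.1 (m.R_mem g)).choose_spec

theorem pS_surj : Function.Surjective (pS m) := fun s => by
  obtain ⟨B, hB⟩ := QuotientGroup.mk_surjective (φ s)
  obtain ⟨k, -, hk⟩ := m.R_surj B (mem_W.2 ⟨s, hB.symm⟩)
  exact ⟨k, φ_injective (by rw [φ_pS, hk, hB])⟩

variable {m}

theorem pS_eq {g h : D} (e : pS m g = pS m h) : m.R g = m.R h ∨ m.R g = -m.R h :=
  mk_eq_iff.1 (by rw [← φ_pS, ← φ_pS, e])

seal _root_.Finset.sum _root_.dotProduct in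
theorem pS_one {g : D} : pS m g = 1 ↔ m.R g = 1 ∨ m.R g = -1 := by
  rw [← mk_eq_one, ← φ_pS, map_eq_one_iff _ φ_injective]

theorem exists_K (g : D) : ∃ k, m.K k ∧ m.R g = m.R k := by
  obtain ⟨k, v, hk, rfl⟩ := m.dec g
  exact ⟨k, hk, by rw [map_mul, m.R_β, mul_one]⟩

theorem exists_el_one {n : D} (h : m.R n = 1) : ∃ v c, n = m.el 1 v c := exists_el m.K_one (by rw [h, map_one])

theorem el_one_mul (v w : V12) (c d : ZMod 3) : m.el 1 v c * m.el 1 w d = m.el 1 (v + w) (fm v w + (c + d)) := by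
  rw [el_mul m.K_one, map_one, Units.val_one, vecMul_one, mul_one]

theorem ker_cube {n : D} (h : m.R n = 1) : n ^ 3 = 1 := by
  obtain ⟨v, c, rfl⟩ := exists_el_one h
  rw [pow_succ, pow_two, el_one_mul, el_one_mul, fm_add_left, fm_self, add_zero, zero_add, zero_add, z3_three,
    show v + v + v = 0 from funext fun j => z3_three _, el_zero_zero]

theorem card_ker (m : TAB.C3B.Mod D) : Nat.card m.R.ker = 3 ^ 13 := by
  have h2 : Nat.card (V12 × ZMod 3) = Nat.card m.R.ker := by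
    refine Nat.card_congr (Equiv.ofBijective (fun p => ⟨m.el 1 p.1 p.2, by
      rw [MonoidHom.mem_ker, R_el, map_one]⟩) ⟨fun p q h => ?_, fun g => ?_⟩)
    · obtain ⟨h3, h4⟩ := el_inj m.K_one (congrArg Subtype.val h)
      exact Prod.ext h3 h4
    · obtain ⟨v, c, h⟩ := exists_el_one (m := m) g.2
      exact ⟨(v, c), Subtype.ext h.symm⟩
  rw [← h2, Nat.card_prod, card_rows, Nat.card_zmod]
  norm_num

theorem ker_comm {a b : D} (ha : m.R a = 1) (hb : m.R b = 1) : ∃ c, a * b * a⁻¹ * b⁻¹ = m.X c := by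
  obtain ⟨v, c, rfl⟩ := exists_el_one ha
  obtain ⟨w, d, rfl⟩ := exists_el_one hb
  refine ⟨fm v w - fm w v, ?_⟩
  rw [mul_inv_eq_iff_eq_mul, mul_inv_eq_iff_eq_mul, mul_assoc, ← m.X_cen, el_one_mul, el_one_mul, add_comm w v]
  unfold el
  rw [mul_assoc _ (m.X _), ← m.X_add]
  exact congrArg (fun c => _ * m.X c) (by ring)

theorem ker_cen {a : D} (ha : m.R a = 1) (h : ∀ b, m.R b = 1 → a * b = b * a) : ∃ c, a = m.X c := by
  obtain ⟨v, c, rfl⟩ := exists_el_one ha
  have h1 : v = 0 := eq_zero_of_fm fun w => by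
    have h2 := h (m.el 1 w 0) (by rw [R_el, map_one])
    rw [el_one_mul, el_one_mul] at h2
    have h3 := (el_inj m.K_one h2).2
    rw [fm_swap v w, add_zero, zero_add, add_left_inj] at h3
    exact z3_two _ (eq_neg_iff_add_eq_zero.1 h3)
  exact ⟨c, by rw [h1, el_zero, one_mul]⟩

/-- the kernel of `pS` is invariant -/
theorem ker_inv {α : D →* D} (hα : Function.Surjective α) {g : D} (hg : pS m g = 1) : pS m (α g) = 1 := by
  have : IsSimpleGroup Suz := Cfsg.Agent.S1694.result.1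
  have := fin_Suz
  have : Fact (Nat.Prime 5) := ⟨Nat.prime_five⟩
  have hs : Function.Surjective ((pS m).comp α) := (pS_surj m).comp hα
  rcases (Normal.map (inferInstance : (pS m).ker.Normal) _ hs).eq_bot_or_eq_top with h | h
  · have h1 : (pS m).comp α g ∈ (pS m).ker.map ((pS m).comp α) := ⟨g, hg, rfl⟩
    rw [h] at h1
    exact h1
  · exfalso
    obtain ⟨s, hs⟩ := exists_prime_orderOf_dvd_card' (G := Suz) 5 (by
      rw [SporadicRecognition.SuzOrder.card_Suz]; norm_num)
    have h1 : s ∈ (pS m).ker.map ((pS m).comp α) := by rw [h]; trivial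
    obtain ⟨k, hk, rfl⟩ := h1
    have h2 : (k ^ 2) ^ 3 = 1 := ker_cube (m := m) (by
      rw [map_pow]
      rcases pS_one.1 hk with e | e <;> rw [e] <;> simp)
    have h3 : (pS m).comp α k ^ 6 = 1 := by rw [← map_pow, show 6 = 2 * 3 from rfl, pow_mul, h2, map_one]
    have h4 := orderOf_dvd_of_pow_eq_one h3
    rw [hs] at h4
    omega

theorem fibR (g₀ : D) : {g | m.R g = m.R g₀}.ncard ≤ 3 ^ 13 := by
  obtain ⟨k, hk, e⟩ := exists_K (m := m) g₀
  have h1 : {g | m.R g = m.R g₀} ⊆ (fun p : V12 × ZMod 3 => m.el k p.1 p.2) '' Set.univ := fun g hg => by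
    obtain ⟨v, c, h⟩ := exists_el hk (Eq.trans hg e)
    exact ⟨(v, c), trivial, h.symm⟩
  refine (Set.ncard_le_ncard h1).trans ((Set.ncard_image_le).trans ?_)
  rw [Set.ncard_univ, Nat.card_prod, card_rows, Nat.card_zmod]
  norm_num

theorem n_odd [Finite D] (m : TAB.C3B.Mod D) {p : ℕ} (hp : Odd p) : {g : D | g ^ p = 1}.ncard ≤ 3 ^ 13 * {s : Suz | s ^ p = 1}.ncard := by
  have := fin_Suz
  refine fib _ (pS m) (Set.toFinite _) _ (fun a ha => ?_) fun a ha => ?_
  · show pS m a ^ p = 1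
    rw [← map_pow, show a ^ p = 1 from ha, map_one]
  · refine (Set.ncard_le_ncard fun g hg => ?_).trans (fibR (m := m) a)
    refine (pS_eq hg.2).resolve_right fun e => m1_ne ?_
    have h1 := congrArg (· ^ p) e
    simp only [hp.neg_pow, ← map_pow, show a ^ p = 1 from ha, show g ^ p = 1 from hg.1, map_one] at h1
    exact h1.symm

/-- centralizers -/
theorem cent_le [Finite D] (y : D) : Nat.card (centralizer ({y} : Set D)) ≤ 3 * Eg (m.R y : M12) 1 * CW (m.R y) := by
  show (centralizer ({y} : Set D) : Set D).ncard ≤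
    _ * ((W ⊓ centralizer ({m.R y} : Set GL12) : Subgroup GL12) : Set GL12).ncard
  refine fib _ m.R (Set.toFinite _) _ (fun a ha => ⟨m.R_mem a, mem_centralizer_singleton_iff.2 ?_⟩) fun a ha => ?_
  · rw [← map_mul, ← map_mul, mem_centralizer_singleton_iff.1 ha]
  · obtain ⟨k, hk, e⟩ := exists_K (m := m) y
    obtain ⟨w, d, hy⟩ := exists_el hk e
    have h1 : {g | g ∈ (centralizer ({y} : Set D) : Set D) ∧ m.R g = m.R a} ⊆
        (fun p : ZMod 3 × V12 => a * m.el 1 p.2 p.1) '' (Set.univ ×ˢ {u | u ᵥ* (m.R y : M12) = (1 : ZMod 3) • u}) := by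
      intro g hg
      obtain ⟨v, c, h⟩ := exists_el_one (m := m) (n := a⁻¹ * g) (by rw [map_mul, map_inv, hg.2, inv_mul_cancel])
      refine ⟨(c, v), ⟨trivial, ?_⟩, by
        show a * m.el 1 v c = g
        rw [← h, mul_inv_cancel_left]⟩
      have h2 : a⁻¹ * g * y = y * (a⁻¹ * g) := mem_centralizer_singleton_iff.1 (mul_mem (inv_mem ha) hg.1)
      rw [h, hy, el_mul hk, el_mul m.K_one, map_one, Units.val_one, vecMul_one] at h2
      have h3 := vec_eq (m.K_one.mul hk) (hk.mul m.K_one) h2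
      show v ᵥ* (m.R y : M12) = (1 : ZMod 3) • v
      rw [one_smul, e]
      exact add_right_cancel (h3.trans (add_comm _ _))
    refine (Set.ncard_le_ncard h1).trans ((Set.ncard_image_le).trans ?_)
    rw [Set.ncard_prod, Set.ncard_univ, Nat.card_zmod]
    rfl

theorem cent_three [Finite D] {y : D} (h3 : y ^ 3 = 1) (h1 : m.R y ≠ 1) :
    Nat.card (centralizer ({y} : Set D)) ≤ 3 ^ 7 * (2 * 9797760) :=
  (cent_le y).trans (three_le (m.R_mem y) (by rw [← map_pow, h3, map_one]) h1)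

theorem fib_two (A : GL12) : {t : D | t ^ 2 = 1 ∧ m.R t = A}.ncard ≤ Eg (A : M12) (-1) := by
  rcases Set.eq_empty_or_nonempty {t : D | t ^ 2 = 1 ∧ m.R t = A} with h | ⟨t₀, h1, rfl⟩
  · rw [h, Set.ncard_empty]
    exact Nat.zero_le _
  obtain ⟨k, hk, e, hk2⟩ := m.exists_lift (m.R_mem t₀) (n := 2) (by decide) (by rw [← map_pow, h1, map_one])
  have h2 : {t : D | t ^ 2 = 1 ∧ m.R t = m.R t₀} ⊆
      (fun v : V12 => m.el k v 0) '' {u | u ᵥ* (m.R t₀ : M12) = (-1 : ZMod 3) • u} := by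
    rintro g ⟨hg, hg'⟩
    obtain ⟨v, c, rfl⟩ := exists_el hk (hg'.trans e.symm)
    rw [el_pow hk, hk2] at hg
    obtain ⟨h3, h4⟩ := el_inj m.K_one (hg.trans (el_zero_zero (m := m) 1).symm)
    simp only [ps, pq, zero_vecMul, zero_add, fm_zero_left] at h3 h4
    have h5 : v ᵥ* (m.R k : M12) = -v := eq_neg_of_add_eq_zero_left h3
    rw [h5, fm_neg_left, fm_self, neg_zero, zero_add, Nat.cast_ofNat, two_mul] at h4
    refine ⟨v, ?_, by rw [z3_two c h4]⟩
    show v ᵥ* (m.R t₀ : M12) = (-1 : ZMod 3) • v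
    rw [← e, h5, neg_one_smul]
  exact (Set.ncard_le_ncard h2).trans Set.ncard_image_le

theorem fib_two' [Finite D] (a : D) :
    {t : D | t ^ 2 = 1 ∧ pS m t = pS m a}.ncard ≤ Eg (m.R a : M12) (-1) + Eg (m.R a : M12) 1 := by
  have h1 : {t : D | t ^ 2 = 1 ∧ pS m t = pS m a} ⊆
      {t : D | t ^ 2 = 1 ∧ m.R t = m.R a} ∪ {t : D | t ^ 2 = 1 ∧ m.R t = -m.R a} := fun t ht =>
    (pS_eq ht.2).imp (fun h => ⟨ht.1, h⟩) fun h => ⟨ht.1, h⟩
  refine (Set.ncard_le_ncard h1).trans ((Set.ncard_union_le _ _).trans (Nat.add_le_add (fib_two _) ?_))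
  have h2 := fib_two (m := m) (-m.R a)
  rwa [Units.val_neg, Eg_neg, neg_neg] at h2

/-- **involutions** -/
theorem n_two [Finite D] (m : TAB.C3B.Mod D) : {t : D | t ^ 2 = 1}.ncard ≤ 10 ^ 9 := by
  have := fin_Suz
  have h1 : {t : D | t ^ 2 = 1} ⊆ {t : D | t ^ 2 = 1 ∧ pS m t = pS m 1} ∪ {t : D | t ^ 2 = 1 ∧ pS m t ≠ 1} := by
    intro t ht
    by_cases h : pS m t = 1
    · exact Or.inl ⟨ht, by rw [h, map_one]⟩
    · exact Or.inr ⟨ht, h⟩
  have h2 := (fib_two' (m := m) 1).trans (Nat.add_le_add (Eg_le _ _) (Eg_le _ _))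
  have h0 : ∀ t : D, t ^ 2 = 1 → m.R t ^ 2 = 1 := fun t ht => by rw [← map_pow, ht, map_one]
  have h3 := fib {t : D | t ^ 2 = 1 ∧ pS m t ≠ 1} (pS m) (T := {s | fam s = 0}) (Set.toFinite _) 6642
    (fun a ha => (two_le (φ_pS m a) (h0 a ha.1) ha.2).1) fun a ha =>
      le_trans (Set.ncard_le_ncard (t := {t : D | t ^ 2 = 1 ∧ pS m t = pS m a}) fun t ht => ⟨ht.1.1, ht.2⟩)
        ((fib_two' a).trans (two_le (φ_pS m a) (h0 a ha.1) ha.2).2)
  rw [fam_ncard, show SZ.getD 0 0 = 135135 from rfl] at h3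
  exact (Set.ncard_le_ncard h1).trans ((Set.ncard_union_le _ _).trans ((Nat.add_le_add h2 h3).trans (by norm_num)))

/-- **elements inverted by an automorphism** -/
theorem n_inv [Finite D] {α : D →* D} (hα : Function.Surjective α) {c : ℕ}
    (hc : ∀ a, α a = a⁻¹ → {d | α d = d⁻¹ ∧ m.R d = m.R a}.ncard ≤ c) : {d | α d = d⁻¹}.ncard ≤ 2 * c * 5760000 := by
  have := fin_Suz
  have h1 : (pS m '' {d | α d = d⁻¹}).ncard ≤ 5760000 := by
    refine sq_le ?_
    rintro _ ⟨d, hd, rfl⟩ _ ⟨e, he, rfl⟩ x ⟨d', hd', h1⟩ ⟨e', he', h2⟩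
    have h3 : pS m (α ((d⁻¹ * d')⁻¹ * (e⁻¹ * e'))) = 1 := ker_inv hα (by
      simp only [map_mul, map_inv, h1, h2]
      group)
    simp only [map_mul, map_inv, show α d = d⁻¹ from hd, show α d' = d'⁻¹ from hd', show α e = e⁻¹ from he,
      show α e' = e'⁻¹ from he', h1, h2] at h3
    rw [inv_mul_eq_one] at h3
    calc (pS m e)⁻¹ * pS m d * x = (pS m e)⁻¹ * ((pS m d)⁻¹⁻¹ * (pS m d * x)⁻¹)⁻¹ * pS m d := by group
      _ = _ := by rw [h3]; group
  refine le_trans (fib _ (pS m) (T := pS m '' {d | α d = d⁻¹}) (Set.toFinite _) (2 * c) (fun a ha => ⟨a, ha, rfl⟩)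
    fun a ha => ?_) (Nat.mul_le_mul_left _ h1)
  have h2 : {d | d ∈ {d | α d = d⁻¹} ∧ pS m d = pS m a} ⊆
      {d | α d = d⁻¹ ∧ m.R d = m.R a} ∪ {d | α d = d⁻¹ ∧ m.R d = -m.R a} := fun t ht =>
    (pS_eq ht.2).imp (fun h => ⟨ht.1, h⟩) fun h => ⟨ht.1, h⟩
  refine (Set.ncard_le_ncard h2).trans ((Set.ncard_union_le _ _).trans ?_)
  rw [two_mul]
  refine Nat.add_le_add (hc a ha) ?_
  rcases Set.eq_empty_or_nonempty {d | α d = d⁻¹ ∧ m.R d = -m.R a} with h | ⟨b, hb, hb'⟩
  · rw [h, Set.ncard_empty]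
    exact Nat.zero_le _
  · rw [← hb']
    exact hc b hb

end Cfsg.Agent.SP.Mon.D1
end

-- part: SP/Pos/HN/Cnt
section
set_option linter.all false
open scoped Cfsg.Agent.FastGrp

/-! # HN: the counting argument -/

set_option autoImplicit false

namespace Cfsg.Agent.SP.PosB.HN

open Finset Cfsg.Agent.H651.HNF

/-- the cyclic group of order three -/
abbrev Z3 := Multiplicative (ZMod 3)

section LemmaC
variable {K : Type*} [Group K] [Fintype K] {Ω : Type*} [Fintype Ω] [DecidableEq Ω] [MulAction K Ω]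

/-- number of fixed points -/
def nfix (Ω : Type*) [Fintype Ω] [DecidableEq Ω] [MulAction K Ω] (g : K) : ℕ := #{p : Ω | g • p = p}

omit [Fintype K] in
theorem nfix_conj (g r : K) : nfix Ω (g * r * g⁻¹) = nfix Ω r := by
  unfold nfix
  symm
  refine card_bij (fun p _ => g • p) ?_ ?_ ?_
  · intro p hp
    simp only [mem_filter, mem_univ, true_and] at hp ⊢
    rw [mul_smul, mul_smul, inv_smul_smul, hp]
  · intro p _ q _ h
    exact smul_left_cancel g h
  · intro q hq
    simp only [mem_filter, mem_univ, true_and] at hq ⊢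
    refine ⟨g⁻¹ • q, ?_, smul_inv_smul _ _⟩
    rw [mul_smul, mul_smul] at hq
    rw [eq_inv_smul_iff, hq]

/-- counting with pairs of fixed points -/
theorem lemmaC [DecidableEq K] (x0 x1 : Ω) (htr : ∀ p q : Ω, p ≠ q → ∃ g : K, g • x0 = p ∧ g • x1 = q)
    (S : K → Prop) [DecidablePred S] (e k1 k2 : ℕ) (L : Finset K)
    (hL : ∀ r ∈ L, r • x0 = x0 ∧ r ^ e • x1 = x1 ∧ (∀ g, S (g * r * g⁻¹)) ∧ nfix Ω r ≤ k1 ∧
      nfix Ω (r ^ e) ≤ k2 + 1) :
    (Fintype.card Ω * Fintype.card Ω - Fintype.card Ω) * #L ≤ #{s | S s} * (k1 * k2) := by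
  classical
  let S' : Finset K := {s | S s ∧ nfix Ω s ≤ k1 ∧ nfix Ω (s ^ e) ≤ k2 + 1}
  have h1 := card_mul_le_card_mul (s := (univ : Finset Ω).offDiag) (t := S')
    (fun pq s => s • pq.1 = pq.1 ∧ s ^ e • pq.2 = pq.2) (m := #L) (n := k1 * k2) ?_ ?_
  · rw [offDiag_card, card_univ] at h1
    refine h1.trans (Nat.mul_le_mul_right _ (card_le_card ?_))
    intro s hs
    simp only [S', mem_filter, mem_univ, true_and] at hs ⊢
    exact hs.1
  · rintro ⟨p, q⟩ hpq
    obtain ⟨g, hg0, hg1⟩ := htr p q (mem_offDiag.1 hpq).2.2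
    refine card_le_card_of_injOn (fun r => g * r * g⁻¹) ?_ ?_
    · intro r hr
      obtain ⟨a1, a2, a3, a4, a5⟩ := hL r hr
      simp only [coe_bipartiteAbove, Set.mem_ofPred_eq, S', mem_filter, mem_univ, true_and, conj_pow, nfix_conj]
      refine ⟨⟨a3 g, a4, a5⟩, ?_, ?_⟩
      · rw [← hg0, mul_smul, mul_smul, inv_smul_smul, a1]
      · rw [← hg1, mul_smul, mul_smul, inv_smul_smul, a2]
    · intro r _ r' _ h
      simpa using h
  · intro s hs
    simp only [S', mem_filter, mem_univ, true_and] at hs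
    obtain ⟨-, a4, a5⟩ := hs
    have := card_le_mul_card_image_of_maps_to (f := Prod.fst)
      (s := (univ : Finset Ω).offDiag.bipartiteBelow (fun pq s => s • pq.1 = pq.1 ∧ s ^ e • pq.2 = pq.2) s)
      (t := ({p : Ω | s • p = p} : Finset Ω)) ?_ k2 ?_
    · exact this.trans (by rw [mul_comm]; exact Nat.mul_le_mul_right _ a4)
    · intro pq h
      simp only [mem_bipartiteBelow] at h
      simp only [mem_filter, mem_univ, true_and]
      exact h.2.1
    · intro p hp
      simp only [mem_filter, mem_univ, true_and] at hp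
      have hp' : p ∈ ({q : Ω | s ^ e • q = q} : Finset Ω) := by
        simp only [mem_filter, mem_univ, true_and]
        exact MulAction.mem_stabilizer_iff.1 (pow_mem (MulAction.mem_stabilizer_iff.2 hp) e)
      have h2 := card_erase_of_mem hp'
      refine le_trans (card_le_card_of_injOn Prod.snd (t := ({q : Ω | s ^ e • q = q} : Finset Ω).erase p) ?_ ?_) ?_
      · rintro ⟨a, b⟩ h
        simp only [coe_filter, mem_bipartiteBelow, mem_offDiag, mem_univ, true_and, Set.mem_ofPred_eq] at h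
        simp only [coe_erase, coe_filter, mem_univ, true_and, Set.mem_sdiff, Set.mem_ofPred_eq, Set.mem_singleton_iff]
        exact ⟨h.1.2.2, fun e => h.1.1 (h.2.trans e.symm)⟩
      · rintro ⟨a, b⟩ h ⟨a', b'⟩ h' e
        simp only [coe_filter, Set.mem_ofPred_eq] at h h' e
        exact Prod.ext (h.2.trans h'.2.symm) e
      · unfold nfix at a5
        omega

end LemmaC

section Conj
variable {K : Type*} [Group K] [Fintype K] [DecidableEq K]

theorem card_conj_fiber (x y : K) (h : IsConj x y) :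
    #{t : K | t * x * t⁻¹ = y} = Nat.card (Subgroup.centralizer ({x} : Set K)) := by
  classical
  obtain ⟨c, hc⟩ := isConj_iff.1 h
  rw [Nat.card_eq_fintype_card, Fintype.card_subtype]
  symm
  refine card_bij (fun p _ => c * p) ?_ ?_ ?_
  · intro p hp
    simp only [mem_filter, mem_univ, true_and, Subgroup.mem_centralizer_singleton_iff] at hp ⊢
    rw [← hc, mul_assoc c p x, hp]; group
  · intro p _ q _ h
    exact mul_left_cancel h
  · intro q hq
    simp only [mem_filter, mem_univ, true_and, Subgroup.mem_centralizer_singleton_iff] at hq ⊢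
    refine ⟨c⁻¹ * q, ?_, by group⟩
    have : q * x = c * x * c⁻¹ * q := by rw [hc, ← hq]; group
    rw [mul_assoc, this]; group

/-- the size of a class from a bound for the centraliser -/
theorem lemmaD (x : K) (c : ℕ) (hc : Nat.card (Subgroup.centralizer ({x} : Set K)) ≤ c) [DecidablePred (IsConj x)] :
    Fintype.card K ≤ c * #{y | IsConj x y} := by
  rw [← card_univ]
  refine card_le_mul_card_image_of_maps_to (f := fun t => t * x * t⁻¹) ?_ c ?_
  · intro t _
    simp only [mem_filter, mem_univ, true_and]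
    exact isConj_iff.2 ⟨t, rfl⟩
  · intro y hy
    simp only [mem_filter, mem_univ, true_and] at hy
    rw [card_conj_fiber x y hy]
    exact hc

omit [DecidableEq K] in
theorem fiber_le (D : Subgroup K) [DecidablePred (· ∈ D)] (lam : K →* Z3) (c : Z3) :
    #{k | lam k = c ∧ k ∈ D} ≤ #{k | lam k = 1 ∧ k ∈ D} := by
  rcases ({k | lam k = c ∧ k ∈ D} : Finset K).eq_empty_or_nonempty with h | ⟨d, hd⟩
  · rw [h]; exact Nat.zero_le _
  simp only [mem_filter, mem_univ, true_and] at hd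
  refine card_le_card_of_injOn (fun k => d⁻¹ * k) ?_ ?_
  · intro k hk
    simp only [coe_filter, mem_univ, true_and, Set.mem_ofPred_eq] at hk ⊢
    exact ⟨by rw [map_mul, map_inv, hd.1, hk.1, inv_mul_cancel], D.mul_mem (D.inv_mem hd.2) hk.2⟩
  · intro k _ k' _ h
    exact mul_left_cancel h

end Conj

/-- the numbers of elements of `U₃(8)` -/
def n0 : Ty → ℕ
  | .c1 => 1 | .c2B => 3591 | .c4A => 86184 | .c4C => 172368 | .c3A => 7296 | .c3B => 68096 | .c6B => 459648
  | .c9 => 612864 | .c7 => 787968 | .c21 => 1575936 | .c19 => 1741824 | _ => 0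

/-- the numbers of elements of the other cosets -/
def n1 : Ty → ℕ
  | .c3A => 25536 | .c3B => 51072 | .c6B => 229824 | .c6C => 459648 | .c9 => 612864 | .c12B => 1378944
  | .c12C => 2757888 | _ => 0

/-- the numbers of elements of `U₃(8):3` -/
def nA (t : Ty) : ℕ := n0 t + n1 t + n1 t

theorem sum_nA : ∑ t, (n0 t + n1 t + n1 t) = 16547328 := by decide +kernel

theorem key_num : ∑ t, n0 t * (t.cen * if t = .c19 then nA t else 2 * nA t) =
    ∑ t, n1 t * (t.cen * nA t) + ∑ t, n1 t * (t.cen * nA t) := by decide +kernel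

theorem z3_cases (c : Z3) : c = 1 ∨ c = Multiplicative.ofAdd 1 ∨ c = Multiplicative.ofAdd 2 := by
  revert c; decide

theorem sum_ty {K : Type*} [Fintype K] (P : K → Prop) [DecidablePred P] (f : K → Ty) (F : Ty → ℕ) :
    ∑ k with P k, F (f k) = ∑ t, #{k | P k ∧ f k = t} * F t := by
  rw [← sum_fiberwise (g := f)]
  refine sum_congr rfl fun t _ => ?_
  rw [filter_filter, card_eq_sum_ones, sum_mul, one_mul]
  refine sum_congr rfl fun k hk => ?_
  simp only [mem_filter] at hk
  rw [hk.2.2]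

theorem card_split {K : Type*} [Group K] [Fintype K] (lam : K →* Z3) (P : K → Prop) [DecidablePred P] :
    #{k | P k} = #{k | lam k = 1 ∧ P k} + #{k | lam k = Multiplicative.ofAdd 1 ∧ P k} +
      #{k | lam k = Multiplicative.ofAdd 2 ∧ P k} := by
  simp only [card_filter]
  rw [← sum_add_distrib, ← sum_add_distrib]
  refine sum_congr rfl fun k _ => ?_
  by_cases h : P k
  · rcases z3_cases (lam k) with e | e | e <;> rw [e] <;> simp only [h, and_true] <;> decide
  · simp [h]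

section Main
variable {T : Type} [Group T] [Finite T] {ty : T → Ty} {K : Type*} [Group K] [Fintype K]

/-- lower bounds give the exact numbers -/
theorem exact_counts (f : K → Ty) (lam : K →* Z3) (hf : ∀ k, f k⁻¹ = f k) (hK : Fintype.card K ≤ 16547328)
    (h0 : ∀ t, n0 t ≤ #{k | lam k = 1 ∧ f k = t})
    (h1 : ∀ t, n1 t ≤ #{k | lam k = Multiplicative.ofAdd 1 ∧ f k = t}) (t : Ty) :
    #{k | lam k = 1 ∧ f k = t} = n0 t ∧ #{k | lam k = Multiplicative.ofAdd 1 ∧ f k = t} = n1 t ∧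
      #{k | lam k = Multiplicative.ofAdd 2 ∧ f k = t} = n1 t := by
  classical
  have h2 : ∀ t, n1 t ≤ #{k | lam k = Multiplicative.ofAdd 2 ∧ f k = t} := by
    intro t
    refine (h1 t).trans (card_le_card_of_injOn (fun k => k⁻¹) ?_ ?_)
    · intro k hk
      simp only [coe_filter, mem_univ, true_and, Set.mem_ofPred_eq] at hk ⊢
      exact ⟨by rw [map_inv, hk.1]; decide, by rw [hf, hk.2]⟩
    · intro k _ k' _ h
      exact inv_injective h
  have h3 : ∑ t, (#{k | lam k = 1 ∧ f k = t} + #{k | lam k = Multiplicative.ofAdd 1 ∧ f k = t} +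
      #{k | lam k = Multiplicative.ofAdd 2 ∧ f k = t}) = Fintype.card K := by
    rw [← card_univ, card_eq_sum_card_fiberwise (f := f) (t := univ) (fun _ _ => mem_univ _)]
    exact sum_congr rfl fun t _ => (card_split lam _).symm
  have h4 : ∀ t ∈ (univ : Finset Ty), n0 t + n1 t + n1 t ≤ #{k | lam k = 1 ∧ f k = t} +
      #{k | lam k = Multiplicative.ofAdd 1 ∧ f k = t} + #{k | lam k = Multiplicative.ofAdd 2 ∧ f k = t} :=
    fun t _ => add_le_add (add_le_add (h0 t) (h1 t)) (h2 t)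
  have h5 := (sum_eq_sum_iff_of_le h4).1 (le_antisymm (sum_le_sum h4) (by rw [h3, sum_nA]; exact hK)) t (mem_univ _)
  have := h0 t
  have := h1 t
  have := h2 t
  omega

/-- **the counting argument** -/
theorem counting (Tb : Table T ty) (haut : ∀ (τ : MulAut T) g, ty (τ g) = ty g)
    (h19 : ∀ g, ty g = .c19 → ¬ IsConj g g⁻¹) (ι : K →* T) (hι : Function.Injective ι) (lam : K →* Z3)
    (hc : ∀ t, #{k | lam k = 1 ∧ ty (ι k) = t} = n0 t ∧ #{k | lam k = Multiplicative.ofAdd 1 ∧ ty (ι k) = t} = n1 t ∧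
      #{k | lam k = Multiplicative.ofAdd 2 ∧ ty (ι k) = t} = n1 t) (τ : MulAut T) :
    ∃ k : K, lam k ≠ 1 ∧ τ (ι k) ∈ ι.range := by
  classical
  have := Fintype.ofFinite T
  let D : T → Subgroup K := fun t => ι.range.comap (τ.toMonoidHom.comp ((MulAut.conj t).toMonoidHom.comp ι))
  have hD : ∀ t k, k ∈ D t ↔ ∃ k', ι k' = τ (t * ι k * t⁻¹) := fun t k => Iff.rfl
  let q : K → ℕ := fun k => #{k' : K | IsConj (ι k) (τ.symm (ι k'))}
  have hA : ∀ t, #{k | ty (ι k) = t} = nA t := by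
    intro t
    rw [card_split lam, (hc t).1, (hc t).2.1, (hc t).2.2, nA]
  have hsing : ∀ k, ty (ι k) ≠ .sing := by
    intro k h
    have h1 := hA .sing
    rw [show nA .sing = 0 from rfl, card_eq_zero, filter_eq_empty_iff] at h1
    exact h1 (mem_univ k) h
  have hm : ∀ k, #{t | k ∈ D t} = (ty (ι k)).cen * q k := by
    intro k
    have e1 : ({t | k ∈ D t} : Finset T) = ({k' : K | IsConj (ι k) (τ.symm (ι k'))} : Finset K).biUnion
        fun k' => {t | t * ι k * t⁻¹ = τ.symm (ι k')} := by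
      ext t
      simp only [mem_filter, mem_univ, true_and, mem_biUnion, hD]
      constructor
      · rintro ⟨k', h⟩
        have : t * ι k * t⁻¹ = τ.symm (ι k') := by rw [h, MulEquiv.symm_apply_apply]
        exact ⟨k', isConj_iff.2 ⟨t, this⟩, this⟩
      · rintro ⟨k', -, h⟩
        exact ⟨k', by rw [h, MulEquiv.apply_symm_apply]⟩
    rw [e1, card_biUnion, mul_comm, ← smul_eq_mul, ← sum_const]
    · refine sum_congr rfl fun k' hk' => ?_
      rw [card_conj_fiber _ _ (mem_filter.1 hk').2, Tb.cent _ (hsing k)]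
    · intro a _ b _ hab
      rw [Function.onFun, disjoint_filter]
      intro t _ h1 h2
      exact hab (hι (τ.symm.injective (h1.symm.trans h2)))
  have hq : ∀ k, ty (ι k) ≠ .c19 → q k = nA (ty (ι k)) := by
    intro k hk
    rw [← hA]
    refine congrArg card (filter_congr fun k' _ => ⟨fun h => ?_, fun h => ?_⟩)
    · rw [Tb.inv _ _ h, haut]
    · exact Tb.conj _ _ (by rw [haut, h]) (hsing k) hk
  have hq19 : ∀ k, ty (ι k) = .c19 → 2 * q k ≤ nA .c19 := by
    intro k hk
    rw [← hA]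
    let U : Finset K := {k' : K | IsConj (ι k) (τ.symm (ι k'))}
    have hd : Disjoint U (U.image (·⁻¹)) := by
      rw [disjoint_left]
      intro a ha ha'
      obtain ⟨b, hb, rfl⟩ := mem_image.1 ha'
      have e1 := (mem_filter.1 ha).2
      have e2 := (mem_filter.1 hb).2
      rw [map_inv, map_inv] at e1
      exact h19 _ ((Tb.inv _ _ e2).symm.trans hk) (e2.symm.trans e1)
    have h1 := card_union_of_disjoint hd
    rw [card_image_of_injective _ inv_injective] at h1
    rw [two_mul, ← h1]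
    refine card_le_card fun a ha => ?_
    simp only [mem_filter, mem_univ, true_and]
    rcases mem_union.1 ha with h | h
    · rw [← haut τ.symm, ← Tb.inv _ _ (mem_filter.1 h).2, hk]
    · obtain ⟨b, hb, rfl⟩ := mem_image.1 h
      have e : ty (ι b) = .c19 := by rw [← haut τ.symm, ← Tb.inv _ _ (mem_filter.1 hb).2, hk]
      have ho : orderOf (ι b) = 19 := by rw [Tb.ord _ (hsing b), e]; rfl
      have : ι b⁻¹ = ι b ^ 18 := by
        rw [map_inv, eq_comm, eq_inv_iff_mul_eq_one, ← pow_succ]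
        have := pow_orderOf_eq_one (ι b)
        rwa [ho] at this
      rw [this, Tb.real _ (hsing b) _ (by rw [ho]; decide), e]
  have hsw : ∀ c : Z3, ∑ t, #{k | lam k = c ∧ k ∈ D t} = ∑ k with lam k = c, (ty (ι k)).cen * q k := by
    intro c
    simp only [← hm, card_filter]
    rw [sum_comm, sum_filter]
    refine sum_congr rfl fun k _ => ?_
    by_cases h : lam k = c <;> simp [h]
  have hcos : ∀ c : Z3, (∀ t, #{k | lam k = c ∧ ty (ι k) = t} = n1 t) →
      ∑ t, #{k | lam k = c ∧ k ∈ D t} = ∑ t, n1 t * (t.cen * nA t) := by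
    intro c h
    rw [hsw]
    simp only [← h]
    rw [← sum_ty (fun k => lam k = c) (fun k => ty (ι k)) (fun t => t.cen * nA t)]
    refine sum_congr rfl fun k hk => ?_
    rw [hq]
    intro h19'
    have h1 := h .c19
    rw [show n1 .c19 = 0 from rfl, card_eq_zero, filter_eq_empty_iff] at h1
    exact h1 (mem_univ k) ⟨(mem_filter.1 hk).2, h19'⟩
  have hB : ∑ t, 2 * #{k | lam k = 1 ∧ k ∈ D t} ≤
      ∑ t, n0 t * (t.cen * if t = .c19 then nA t else 2 * nA t) := by
    rw [← mul_sum, hsw, mul_sum]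
    simp only [← fun t => (hc t).1]
    rw [← sum_ty (fun k => lam k = 1) (fun k => ty (ι k)) (fun t => t.cen * if t = .c19 then nA t else 2 * nA t)]
    refine sum_le_sum fun k _ => ?_
    rw [mul_left_comm]
    refine Nat.mul_le_mul_left _ ?_
    split_ifs with h
    · rw [h]; exact hq19 k h
    · rw [hq k h]
  have hle : ∀ t ∈ (univ : Finset T), #{k | lam k = Multiplicative.ofAdd 1 ∧ k ∈ D t} +
      #{k | lam k = Multiplicative.ofAdd 2 ∧ k ∈ D t} ≤ 2 * #{k | lam k = 1 ∧ k ∈ D t} := fun t _ => by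
    rw [two_mul]; exact add_le_add (fiber_le _ _ _) (fiber_le _ _ _)
  have heq := (sum_eq_sum_iff_of_le hle).1 (le_antisymm (sum_le_sum hle) (by
    rw [sum_add_distrib, hcos _ fun t => (hc t).2.1, hcos _ fun t => (hc t).2.2, ← key_num]; exact hB)) 1 (mem_univ _)
  have hpos : 0 < #{k | lam k = 1 ∧ k ∈ D 1} :=
    card_pos.2 ⟨1, by simp only [mem_filter, mem_univ, true_and]; exact ⟨map_one _, (D 1).one_mem⟩⟩
  by_contra hcon
  push Not at hcon
  have hz : ∀ c : Z3, c ≠ 1 → #{k | lam k = c ∧ k ∈ D 1} = 0 := by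
    intro c hc1
    rw [card_eq_zero, filter_eq_empty_iff]
    rintro k - ⟨h1, h2⟩
    obtain ⟨k', hk'⟩ := (hD 1 k).1 h2
    rw [one_mul, inv_one, mul_one] at hk'
    exact hcon k (h1 ▸ hc1) ⟨k', hk'⟩
  rw [hz _ (by decide), hz _ (by decide)] at heq
  omega

end Main

end Cfsg.Agent.SP.PosB.HN

private theorem dce_5a9715976ccc : _root_.True := by
  try have : _root_.True := by simp only [_root_.Cfsg.Agent.SP.PosB.HN.nfix.congr_simp]
  try have : _root_.True := by simp only [_root_.Cfsg.Agent.SP.PosB.HN.nA.eq_1]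
  exact _root_.True.intro
end

-- part: SP/NJ3/Main
section
prune_inst 0xd4202304040000000000001000002024e000000000230801c92008000000a303000007000c800200110222200000000000000059001000000000820040000000042a10068008a00000000040d804000000000000000000000000000000000000000000000
set_option linter.all false
open scoped Cfsg.Agent.FastGrp

/-! # S5755, the row `J₃` (helper93)

`negJ3 : CFSG → NegJ3`. -/

set_option autoImplicit false

namespace Cfsg.Agent.SP.NJ3

open Subgroup Cfsg Cfsg.Spor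
open Cfsg.Agent.H296.JT (fin_j3 card_j3 cn5)
open Cfsg.Agent.H59.EP (ElAb exists_min_char char_simple char_trans)

variable {K : Type} [Group K]

theorem soc_top [Finite K] {A B S : Subgroup K} (hp : IsPair A B) (hSB : S ≤ B)
    (hn : ∀ a ∈ A, ∀ s ∈ S, a * s * a⁻¹ ∈ S) {p : ℕ} (hpp : p.Prime) {x : K} (hxS : x ∈ S) (hx : orderOf x = p)
    (h2 : ¬ p ^ 2 ∣ Nat.card S)
    (he : Nat.card (S ⊓ normalizer ((zpowers x : Subgroup K) : Set K) : Subgroup K) =
      Nat.card (normalizer ((zpowers x : Subgroup K) : Set K))) : False := by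
  have hi := idx_data (hSB.trans hp.le) hn hpp hxS hx h2
  have h1 := card_dvd_of_le (inf_le_right : A ⊓ normalizer ((zpowers x : Subgroup K) : Set K) ≤ _)
  rw [hi, he] at h1
  have h3 : S.relIndex A ∣ 1 := Nat.dvd_of_mul_dvd_mul_right Nat.card_pos (by rwa [one_mul])
  exact hp.relIndex_ne_one (Nat.dvd_one.1 ((relIndex_dvd_of_le_left A hSB).trans h3))

theorem soc_big [Finite K] {A B S : Subgroup K} (hp : IsPair A B) (hSB : S ≤ B)
    (hn : ∀ a ∈ A, ∀ s ∈ S, a * s * a⁻¹ ∈ S) {p c M : ℕ} (hpp : p.Prime) (hc : Nat.card S = c) (hd : p ∣ c)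
    (h2 : ¬ p ^ 2 ∣ c)
    (hM : ∀ x : K, orderOf x = p → Nat.card (normalizer ((zpowers x : Subgroup K) : Set K)) = M) (hM0 : M ≠ 0)
    (har : ∀ m ∈ Nat.divisors M, c / m % p = 1 → m = M) : False := by
  obtain ⟨x, hxS, hx⟩ := exists_ord (S := S) hpp (by rw [hc]; exact hd)
  rw [← hc] at h2
  obtain ⟨n, hn1, hn2⟩ := sylow_count hpp hxS hx h2
  refine soc_top hp hSB hn hpp hxS hx h2 ?_
  rw [hM x hx]
  refine har _ (Nat.mem_divisors.2 ⟨by rw [← hM x hx]; exact card_dvd_of_le inf_le_right, hM0⟩) ?_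
  rw [← hc, hn2, Nat.mul_div_cancel_left _ Nat.card_pos, hn1]

theorem aut_case (h : IsoJ3 K) (L3 : ∀ N : Subgroup K, ElAb 3 N → N ≠ ⊥ → B2 (normalizer (N : Set K)))
    {A B S : Subgroup K} (hp : IsPair A B) (hSA : S ≤ A) (hn : ∀ a ∈ A, ∀ s ∈ S, a * s * a⁻¹ ∈ S)
    {x : K} (hxS : x ∈ S) (hx : orderOf x = 5) {k : ℕ} (hk : 3 ^ k ∣ Nat.card A)
    (hk' : ¬ 3 ^ k ∣ Nat.card (MulAut S)) : False := by
  have := fin_j3 h
  have hN : (S.subgroupOf A).Normal := (normal_subgroupOf_iff' hSA).2 hn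
  let φ : A →* MulAut (S.subgroupOf A) := MulAut.conjNormal
  have h1 := φ.ker.card_mul_index
  rw [index_ker] at h1
  have h2 : Nat.card φ.range ∣ Nat.card (MulAut S) := by
    rw [← Nat.card_congr (MulAut.congr (subgroupOfEquivOfLe hSA)).toEquiv]
    exact card_subgroup_dvd_card _
  have h3 : 3 ∣ Nat.card φ.ker := by
    by_contra hc
    rw [← h1] at hk
    exact hk' ((Nat.Coprime.dvd_of_dvd_mul_left
      (((Nat.Prime.coprime_iff_not_dvd Nat.prime_three).2 hc).pow_left k) hk).trans h2)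
  have f3 : Fact (Nat.Prime 3) := ⟨Nat.prime_three⟩
  obtain ⟨y, hy⟩ := exists_prime_orderOf_dvd_card' 3 h3
  have hy3 : orderOf ((y : A) : K) = 3 := by rw [Subgroup.orderOf_coe, Subgroup.orderOf_coe, hy]
  have hyc : ∀ s ∈ S, ((y : A) : K) * s = s * ((y : A) : K) := by
    intro s hs
    have h4 : φ y = 1 := y.2
    have h5 := congrArg (fun f : MulAut (S.subgroupOf A) => (((f ⟨⟨s, hSA hs⟩, hs⟩ : S.subgroupOf A) : A) : K)) h4
    exact mul_inv_eq_iff_eq_mul.1 h5
  refine not_B2 hp (fun a ha => ?_) (L3 (zpowers ((y : A) : K)) ⟨?_, ?_⟩ ?_)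
  · refine mem_norm_zpowers (c30 h hx hy3 (hyc x hxS) (by rw [conj_pow, ← hy3, pow_orderOf_eq_one]; group) ?_)
    have h4 := hyc _ (hn _ (A.inv_mem ha) x hxS)
    calc a * (y : A) * a⁻¹ * x = a * ((y : A) * (a⁻¹ * x * a⁻¹⁻¹)) * a⁻¹ := by group
      _ = _ := by rw [h4]; group
  · rintro _ ⟨i, rfl⟩ _ ⟨j, rfl⟩
    exact (Commute.zpow_zpow_self _ i j).eq
  · rintro _ ⟨i, rfl⟩
    show (((y : A) : K) ^ i) ^ 3 = 1
    rw [← zpow_natCast, ← zpow_mul, mul_comm, zpow_mul, zpow_natCast, ← hy3, pow_orderOf_eq_one, one_zpow]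
  · intro e
    rw [zpowers_eq_bot] at e
    rw [e, orderOf_one] at hy3
    norm_num at hy3

set_option synthInstance.maxHeartbeats 200000 in
set_option synthInstance.maxSize 1000 in
theorem perm6 : ∀ σ : Equiv.Perm (Fin 6), Equiv.Perm.sign σ = 1 → σ ^ 3 = 1 ∨ σ ^ 4 = 1 ∨ σ ^ 5 = 1 := by
  (set_option synthInstance.maxSize 9000 in open scoped Cfsg.Agent.Lib.FastPerm in decide +kernel)

theorem ar360 : ∀ d ∈ Nat.divisors 360, (¬ 2 ∣ d ∧ ¬ 5 ∣ d) ∨ (¬ 2 ∣ d ∧ ¬ 3 ∣ d) ∨ (¬ 3 ∣ d ∧ ¬ 5 ∣ d) → d ≤ 9 := by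
  decide +kernel

theorem cent360 [Finite K] {S : Subgroup K} (hs : IsSimpleGroup S) (hc : Nat.card S = 360) {x : K} (hxS : x ∈ S)
    (hx1 : x ≠ 1) : Nat.card (S ⊓ centralizer ({x} : Set K) : Subgroup K) ≤ 9 := by
  obtain ⟨e⟩ := Cfsg.Agent.S0497.result hc
  have hS : ∀ g ∈ S, g ^ 3 = 1 ∨ g ^ 4 = 1 ∨ g ^ 5 = 1 := by
    intro g hg
    have key : ∀ n : ℕ, ((e ⟨g, hg⟩ : alternatingGroup (Fin 6)) : Equiv.Perm (Fin 6)) ^ n = 1 → g ^ n = 1 := by
      intro n hn
      have h1 : e (⟨g, hg⟩ ^ n) = 1 := by rw [map_pow]; exact Subtype.ext hn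
      exact congrArg Subtype.val ((map_eq_one_iff e e.injective).1 h1)
    exact (perm6 _ (Equiv.Perm.mem_alternatingGroup.1 (e ⟨g, hg⟩).2)).imp (key 3) (Or.imp (key 4) (key 5))
  have key : ∀ (j p q : ℕ), orderOf (x ^ j) = p → q.Prime → Nat.Coprime p q →
      ¬ p * q ∣ 3 → ¬ p * q ∣ 4 → ¬ p * q ∣ 5 → ¬ q ∣ Nat.card (S ⊓ centralizer ({x} : Set K) : Subgroup K) := by
    intro j p q hj hq hpq h3 h4 h5 hd
    obtain ⟨y, hy, hyq⟩ := exists_ord hq hd
    have hcm : Commute (x ^ j) y := (show Commute x y from (mem_centralizer_singleton_iff.1 hy.2).symm).pow_left j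
    have ho := hcm.orderOf_mul_eq_mul_orderOf_of_coprime (by rw [hj, hyq]; exact hpq)
    rw [hj, hyq] at ho
    rcases hS _ (S.mul_mem (S.pow_mem hxS j) hy.1) with e | e | e <;> have := orderOf_dvd_of_pow_eq_one e <;>
      rw [ho] at this <;> contradiction
  refine ar360 _ (Nat.mem_divisors.2 ⟨by rw [← hc]; exact card_dvd_of_le inf_le_left, by norm_num⟩) ?_
  rcases hS x hxS with e | e | e
  · have h1 : orderOf (x ^ 1) = 3 := by rw [pow_one]; exact ord_prime Nat.prime_three e (by simpa using hx1)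
    exact Or.inl ⟨key 1 3 2 h1 (by norm_num) (by norm_num) (by norm_num) (by norm_num) (by norm_num),
      key 1 3 5 h1 (by norm_num) (by norm_num) (by norm_num) (by norm_num) (by norm_num)⟩
  · obtain ⟨j, h1⟩ : ∃ j, orderOf (x ^ j) = 2 := by
      by_cases h2 : x ^ 2 = 1
      · exact ⟨1, by rw [pow_one]; exact ord_prime Nat.prime_two h2 (by simpa using hx1)⟩
      · exact ⟨2, ord_prime Nat.prime_two (by rw [← pow_mul]; exact e) (by simpa using h2)⟩
    exact Or.inr (Or.inr ⟨key j 2 3 h1 (by norm_num) (by norm_num) (by norm_num) (by norm_num) (by norm_num),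
      key j 2 5 h1 (by norm_num) (by norm_num) (by norm_num) (by norm_num) (by norm_num)⟩)
  · have h1 : orderOf (x ^ 1) = 5 := by rw [pow_one]; exact ord_prime Nat.prime_five e (by simpa using hx1)
    exact Or.inr (Or.inl ⟨key 1 5 2 h1 (by norm_num) (by norm_num) (by norm_num) (by norm_num) (by norm_num),
      key 1 5 3 h1 (by norm_num) (by norm_num) (by norm_num) (by norm_num) (by norm_num)⟩)

theorem ar60 : ∀ m ∈ Nat.divisors 60, (60 / m % 5 = 1 ∨ 360 / m % 5 = 1) → m = 10 ∨ m = 60 := by decide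

theorem sq_le {n : ℕ} (h : n * n - n ≤ 9 * 360) : n ≤ 60 := by
  by_contra hc
  have : 61 * n ≤ n * n := Nat.mul_le_mul_right _ (by omega)
  omega

theorem caseAlt (h : IsoJ3 K) (L3 : ∀ N : Subgroup K, ElAb 3 N → N ≠ ⊥ → B2 (normalizer (N : Set K)))
    {A B S : Subgroup K} (hp : IsPair A B) (hSB : S ≤ B)
    (hn : ∀ a ∈ A, ∀ s ∈ S, a * s * a⁻¹ ∈ S) (hs : IsSimpleGroup S)
    (hc : Nat.card S = 60 ∨ Nat.card S = 360) : False := by
  have := fin_j3 h
  have hSA : S ≤ A := hSB.trans hp.le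
  obtain ⟨x, hxS, hx⟩ := exists_ord (S := S) Nat.prime_five (by rcases hc with hc | hc <;> rw [hc] <;> norm_num)
  have h25 : ¬ 5 ^ 2 ∣ Nat.card S := by rcases hc with hc | hc <;> rw [hc] <;> norm_num
  obtain ⟨-, cH⟩ := cn5 h hx
  obtain ⟨n, hn1, hn2⟩ := sylow_count Nat.prime_five hxS hx h25
  have hi := idx_data hSA hn Nat.prime_five hxS hx h25
  have hm : Nat.card (S ⊓ normalizer ((zpowers x : Subgroup K) : Set K) : Subgroup K) = 10 := by
    refine (ar60 _ (Nat.mem_divisors.2 ⟨by rw [← cH]; exact card_dvd_of_le inf_le_right, by norm_num⟩) ?_).resolve_right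
      fun e => soc_top hp hSB hn Nat.prime_five hxS hx h25 (by rw [e, cH])
    refine hc.imp (fun hc => ?_) (fun hc => ?_) <;>
      rw [← hc, hn2, Nat.mul_div_cancel_left _ Nat.card_pos, hn1]
  have hAd := card_dvd_of_le (inf_le_right : A ⊓ normalizer ((zpowers x : Subgroup K) : Set K) ≤ _)
  rw [hi, hm, cH] at hAd
  have h6 : S.relIndex A ∣ 6 := Nat.dvd_of_mul_dvd_mul_right (by norm_num) (hAd : _ ∣ 6 * 10)
  have hA := relIndex_mul_card hSA
  by_cases h3 : 3 ∣ S.relIndex A
  · rcases hc with hc | hc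
    · obtain ⟨e⟩ := Cfsg.Agent.S0494.result hc
      refine aut_case h L3 hp hSA hn hxS hx (k := 2) ?_ ?_
      · rw [← hA, hc, pow_two]; exact Nat.mul_dvd_mul h3 (by norm_num)
      · rw [Nat.card_congr (MulAut.congr e).toEquiv]; exact H4.Bar.not_nine
    · obtain ⟨e⟩ := Cfsg.Agent.S0497.result hc
      refine aut_case h L3 hp hSA hn hxS hx (k := 3) ?_ ?_
      · rw [← hA, hc, pow_succ']; exact Nat.mul_dvd_mul h3 (by norm_num)
      · rw [Nat.card_congr (MulAut.congr e).toEquiv]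
        exact fun e => by have := e.trans H392.HT.card_mulAut_A6_dvd; norm_num at this
  have hBA := hp.relIndex_ne_one
  have hBd : B.relIndex A ∣ S.relIndex A := relIndex_dvd_of_le_left A hSB
  have hi2 : S.relIndex A = 2 := by
    have h1 : S.relIndex A ∣ 2 := Nat.Coprime.dvd_of_dvd_mul_left
      ((Nat.Prime.coprime_iff_not_dvd Nat.prime_three).2 h3).symm (h6 : _ ∣ 3 * 2)
    rcases (Nat.dvd_prime Nat.prime_two).1 h1 with e | e
    · rw [e] at hBd; exact absurd (Nat.dvd_one.1 hBd) hBA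
    · exact e
  rcases hc with hc | hc
  · have := card_ge h hp
    rw [hi2, hc] at hA
    omega
  have hB2 : 2 ∣ B.relIndex A := by
    rw [hi2] at hBd
    rcases (Nat.dvd_prime Nat.prime_two).1 hBd with e | e
    · exact absurd e hBA
    · rw [e]
  have h1 := inv_ge h hp hB2
  have c0 := ncard_inv_le (S := S) (I := {s | s ∈ S ∧ s * s = 1}) (fun s hs => hs.2)
    (fun s hs s' hs' => S.mul_mem hs.1 hs'.1) (fun x hx hx1 => cent360 hs hc hx hx1)
  have c1 := ncard_inv_le (S := S) (I := {s | s ∈ A ∧ s ∉ S ∧ s * s = 1}) (fun s hs => hs.2.2)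
    (fun s hs s' hs' => (mul_mem_of_two hi2 hs.1 hs'.1).2 (iff_of_false hs.2.1 hs'.2.1))
    (fun x hx hx1 => cent360 hs hc hx hx1)
  rw [hc] at c0 c1
  have hsub : {x | x ∈ A ∧ orderOf x = 2} ⊆ {s | s ∈ S ∧ s * s = 1} ∪ {s | s ∈ A ∧ s ∉ S ∧ s * s = 1} := by
    rintro s ⟨h2, h3⟩
    have h4 : s * s = 1 := by rw [← pow_two, ← h3, pow_orderOf_eq_one]
    by_cases h5 : s ∈ S
    · exact Or.inl ⟨h5, h4⟩
    · exact Or.inr ⟨h2, h5, h4⟩
  have h2 := (Set.ncard_le_ncard hsub (Set.toFinite _)).trans (Set.ncard_union_le _ _)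
  have := sq_le c0
  have := sq_le c1
  omega

theorem exists_min [Finite K] (h5 : ∀ p, p.Prime → 5 ≤ p → ¬ p ^ 2 ∣ Nat.card K) {A B : Subgroup K}
    (hp : IsPair A B) (hB : B ≠ ⊥) : ∃ N : Subgroup K, N ≤ B ∧ (∀ a ∈ A, ∀ s ∈ N, a * s * a⁻¹ ∈ N) ∧ N ≠ ⊥ ∧
      ((∃ s : ℕ, s.Prime ∧ ElAb s N) ∨ (IsSimpleGroup N ∧ ¬ ∀ a b : N, a * b = b * a)) := by
  have hBn := hp.2.2.1
  have hMne : B.subgroupOf A ≠ ⊥ := fun e => hB (by
    rw [← map_subgroupOf_eq_of_le hp.le, e, Subgroup.map_bot])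
  have hMn : Nontrivial (B.subgroupOf A) := (Subgroup.nontrivial_iff_ne_bot _).2 hMne
  obtain ⟨Y, hY, hYne, hYmin⟩ := exists_min_char (B := B.subgroupOf A)
  have hYn : Nontrivial Y := (Subgroup.nontrivial_iff_ne_bot Y).2 hYne
  have hYc : ∀ Z : Subgroup Y, Z.Characteristic → Z = ⊥ ∨ Z = ⊤ := by
    intro Z hZ
    by_cases hZb : Z = ⊥
    · exact Or.inl hZb
    right
    have h1 := hYmin (Z.map Y.subtype) char_trans (map_subtype_le _) (by
      intro e
      rw [Subgroup.map_eq_bot_iff_of_injective _ Y.subtype_injective] at e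
      exact hZb e)
    rw [Subgroup.eq_top_iff']
    intro y
    have h2 : (y : B.subgroupOf A) ∈ Z.map Y.subtype := by rw [h1]; exact y.2
    obtain ⟨z, hz, e⟩ := h2
    have : z = y := Subtype.ext e
    rw [← this]
    exact hz
  let f : B.subgroupOf A →* K := A.subtype.comp (B.subgroupOf A).subtype
  have hf : Function.Injective f := A.subtype_injective.comp (B.subgroupOf A).subtype_injective
  have e : Y ≃* Y.map f := Y.equivMapOfInjective f hf
  have hnorm : (Y.map (B.subgroupOf A).subtype).Normal := inferInstance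
  refine ⟨Y.map f, ?_, ?_, ?_, ?_⟩
  · rintro _ ⟨y, -, rfl⟩
    exact y.2
  · rintro a ha _ ⟨y, hy, rfl⟩
    obtain ⟨z, hz, e⟩ := hnorm.conj_mem _ ⟨y, hy, rfl⟩ ⟨a, ha⟩
    exact ⟨z, hz, congrArg Subtype.val e⟩
  · intro e
    rw [Subgroup.map_eq_bot_iff_of_injective _ hf] at e
    exact hYne e
  have hd : Nat.card Y ∣ Nat.card K := by
    rw [Nat.card_congr e.toEquiv]; exact card_subgroup_dvd_card _
  rcases char_simple hYc (fun p hp hp5 h => h5 p hp hp5 (h.trans hd)) with ⟨s, hs, -, hel⟩ | ⟨h1, h2⟩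
  · refine Or.inl ⟨s, hs, ?_, ?_⟩
    · rintro _ ⟨a, ha, rfl⟩ _ ⟨b, hb, rfl⟩
      rw [← map_mul, ← map_mul]
      exact congrArg f (Subtype.ext_iff.1 (hel.comm ⟨a, ha⟩ (mem_top _) ⟨b, hb⟩ (mem_top _)))
    · rintro _ ⟨a, ha, rfl⟩
      rw [← map_pow, ← map_one f]
      exact congrArg f (Subtype.ext_iff.1 (hel.exp ⟨a, ha⟩ (mem_top _)))
  · refine Or.inr ⟨e.symm.isSimpleGroup, fun hc => h2 (Group.isSolvable_of_comm fun a b => e.injective ?_)⟩
    rw [map_mul, map_mul, hc]

theorem not_pair (hB : H940.Eng.Base) (h : IsoJ3 K)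
    (L2 : ∀ N : Subgroup K, ElAb 2 N → N ≠ ⊥ → B2 (normalizer (N : Set K)))
    (L3 : ∀ N : Subgroup K, ElAb 3 N → N ≠ ⊥ → B2 (normalizer (N : Set K))) : ¬ Pair K := by
  rintro ⟨A, B, hp⟩
  have := fin_j3 h
  have hsim := (H898.J3Cent.base h).1
  have hB0 : B ≠ ⊥ := by
    rintro rfl
    have hn : A.Normal := ⟨fun a ha t => by
      obtain ⟨b, hb, d, -, hdt, e⟩ := hp.exists_mul t⁻¹ ha
      rw [mem_bot.1 hb, one_mul] at e
      rw [e]; simpa using hdt⟩
    exact hn.eq_bot_or_eq_top.elim hp.ne_bot hp.1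
  have h5 : ∀ p, p.Prime → 5 ≤ p → ¬ p ^ 2 ∣ Nat.card K := by
    intro p hpp h5 hd
    rw [card_j3 h] at hd
    rcases H898.J3Cent.prime_dvd_card hpp ((dvd_pow_self p two_ne_zero).trans hd) with rfl | rfl | rfl | rfl | rfl <;>
      revert h5 hd <;> norm_num
  obtain ⟨N, hNB, hn, hne, hN⟩ := exists_min h5 hp hB0
  have hAN : A ≤ normalizer (N : Set K) := fun a ha => mem_normalizer_fintype (hn a ha)
  have hd : Nat.card N ∣ 50232960 := by rw [← card_j3 h]; exact card_subgroup_dvd_card N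
  rcases hN with ⟨s, hs, hel⟩ | ⟨hs, hna⟩
  · obtain ⟨⟨x, hx⟩, hx1⟩ := (Subgroup.ne_bot_iff_exists_ne_one).1 hne
    have ho : orderOf x = s := ord_prime hs (hel.exp x hx) (by rw [pow_one]; exact fun e => hx1 (Subtype.ext e))
    have key : 5 ≤ s → Nat.card A ∣ Nat.card (normalizer ((zpowers x : Subgroup K) : Set K)) := by
      intro h5s
      refine card_dvd_of_le fun a ha => ?_
      obtain ⟨n, hn1, hn2⟩ := frattini hs hx ho (fun e => h5 s hs h5s (e.trans (card_subgroup_dvd_card N)))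
        (hn a ha x hx)
      simpa using mul_mem (comm_mem_norm (hel.comm _ hn1 _ hx)) hn2
    have h162 := card_ge h hp
    have hsd : s ∣ 50232960 := by rw [← ho, ← card_j3 h]; exact orderOf_dvd_natCard x
    rcases H898.J3Cent.prime_dvd_card hs hsd with rfl | rfl | rfl | rfl | rfl
    · exact not_B2 hp hAN (L2 N hel hne)
    · exact not_B2 hp hAN (L3 N hel hne)
    · have h1 := key le_rfl
      rw [(cn5 h ho).2] at h1
      have := Nat.le_of_dvd (by norm_num) h1
      omega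
    · have h1 := key (by norm_num)
      rw [(H898.J3Cent.seventeen h ho).2] at h1
      have := Nat.le_of_dvd (by norm_num) h1
      omega
    · have h1 := key (by norm_num)
      rw [H898.J3Cent.card_normalizer_nineteen h ho] at h1
      obtain ⟨r, hr, hrd⟩ := hp.exists_prime
      have h2 : r ≠ 2 := by
        rintro rfl
        have := (hrd.trans (Dvd.intro _ (relIndex_mul_card hp.le))).trans h1
        norm_num at this
      have := odd_ge h hp hr h2 hrd
      have := Nat.le_of_dvd (by norm_num) h1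
      omega
  · have h1 := H940.Eng.D.ords_j3 hB N hs hna hd
    simp only [H940.Eng.D.o_j3, List.mem_cons, List.not_mem_nil, or_false] at h1
    rcases h1 with h1 | h1 | h1 | h1 | h1 | h1 | h1
    · exact caseAlt h L3 hp hNB hn hs (Or.inl h1)
    · exact caseAlt h L3 hp hNB hn hs (Or.inr h1)
    · exact soc_big hp hNB hn (p := 17) (by norm_num) h1 (by norm_num) (by norm_num)
        (fun x hx => (H898.J3Cent.seventeen h hx).2) (by norm_num) (by decide +kernel)
    · exact soc_big hp hNB hn (p := 19) (by norm_num) h1 (by norm_num) (by norm_num)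
        (fun x hx => H898.J3Cent.card_normalizer_nineteen h hx) (by norm_num) (by decide +kernel)
    · exact case4080 h hp hNB hn hs hna h1
    · exact H296.JT.S25920 h hs h1
    · have h2 : N = ⊤ := eq_top_of_card_eq N (by rw [h1, card_j3 h])
      exact hp.1 (top_le_iff.1 (h2 ▸ hNB.trans hp.le))

end Cfsg.Agent.SP.NJ3

namespace Cfsg.Agent.SP

/-- **The row `J₃`.** -/
theorem negJ3 (hC : CFSG.{0}) : NegJ3 := by
  intro F _ _ ω hF hω
  have H := J3.Core.good_of_card hF hω
  exact NJ3.not_pair ⟨OrdDiv.table, fun S _ _ hS => hC S⟩ (NJ3.iso hF H) (fun _ => NJ3.two_local H hF)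
    (fun _ => NJ3.three_local hF H)

end Cfsg.Agent.SP
end
end
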